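import Mathlib.RingTheory.LocalRing.Length
import Mathlib.FieldTheory.PurelyInseparable.Basic
import Mathlib.RingTheory.TensorProduct.Maps
import Mathlib.RingTheory.Flat.Basic
import Mathlib.RingTheory.Nilpotent.Lemmas
/-! # The length of `k' ⊗_k κ` for a purely inseparable extension `k'/k` divides a power of `p` -/

universe u v

open scoped TensorProduct
open IsLocalRing

namespace Groth.InsepCycles

theorem length_ringEquiv {A B : Type*} [CommRing A] [CommRing B] (e : A ≃+* B) :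
    Module.length A A = Module.length B B := by
  let _ : Algebra A B := e.toRingHom.toAlgebra
  let l : A ≃ₗ[A] B := LinearEquiv.ofBijective (Algebra.linearMap A B) e.bijective
  rw [l.length_eq]
  exact Module.length_eq_of_surjective e.surjective

/-- Rings in which every element is nilpotent or invertible. -/
theorem isLocalRing_of_isNilpotent_or_isUnit {B : Type*} [CommRing B] [Nontrivial B]
    (h : ∀ b : B, IsNilpotent b ∨ IsUnit b) : IsLocalRing B :=
  IsLocalRing.of_nonunits_add fun a b ha hb => by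
    have h1 := ((h a).resolve_right ha)
    have h2 := ((h b).resolve_right hb)
    intro hu
    exact ((Commute.all a b).isNilpotent_add h1 h2).not_isUnit hu

theorem maximalIdeal_eq_nilradical {B : Type*} [CommRing B] [IsLocalRing B]
    (h : ∀ b : B, IsNilpotent b ∨ IsUnit b) : maximalIdeal B = nilradical B := by
  ext x
  rw [mem_nilradical, mem_maximalIdeal, mem_nonunits_iff]
  exact ⟨fun hx => (h x).resolve_right hx, fun hx => hx.not_isUnit⟩

variable (k κ k' : Type u) [Field k] [Field κ] [Field k'] [Algebra k κ] [Algebra k k']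

theorem isNilpotent_or_isUnit_tensor [IsPurelyInseparable k k'] (p : ℕ) [Fact p.Prime] [CharP k p]
    (b : k' ⊗[k] κ) : IsNilpotent b ∨ IsUnit b := by
  have : Nontrivial (k' ⊗[k] κ) :=
    (Algebra.TensorProduct.includeLeft_injective (S := k) (A := k') (B := κ) (algebraMap k κ).injective).nontrivial
  have : CharP (k' ⊗[k] κ) p := charP_of_injective_algebraMap (algebraMap k (k' ⊗[k] κ)).injective p
  have : ExpChar k p := ExpChar.prime Fact.out
  have : ExpChar (k' ⊗[k] κ) p := ExpChar.prime Fact.out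
  obtain ⟨n, c, hc⟩ : ∃ (n : ℕ) (c : κ), b ^ p ^ n = (1 : k') ⊗ₜ[k] c := by
    induction b using TensorProduct.induction_on with
    | zero => exact ⟨0, 0, by simp⟩
    | tmul s t =>
      obtain ⟨n, a, ha⟩ := IsPurelyInseparable.pow_mem k p s
      refine ⟨n, a • t ^ p ^ n, ?_⟩
      rw [Algebra.TensorProduct.tmul_pow, ← ha, Algebra.algebraMap_eq_smul_one, TensorProduct.smul_tmul]
    | add x y hx hy =>
      obtain ⟨n, c, hc⟩ := hx
      obtain ⟨m, d, hd⟩ := hy
      refine ⟨n + m, c ^ p ^ m + d ^ p ^ n, ?_⟩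
      rw [add_pow_expChar_pow, TensorProduct.tmul_add]
      congr 1
      · rw [pow_add, pow_mul, hc, Algebra.TensorProduct.tmul_pow, one_pow]
      · rw [add_comm, pow_add, pow_mul, hd, Algebra.TensorProduct.tmul_pow, one_pow]
  rcases eq_or_ne c 0 with rfl | hc0
  · exact Or.inl ⟨p ^ n, by simpa using hc⟩
  · refine Or.inr ((isUnit_pow_iff (pow_ne_zero n (Fact.out : p.Prime).ne_zero)).mp ?_)
    rw [hc]
    exact (Ne.isUnit hc0).map (Algebra.TensorProduct.includeRight : κ →ₐ[k] k' ⊗[k] κ)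

theorem finrank_eq_length_mul (κ : Type u) [Field κ] (B : Type v) [CommRing B] [IsLocalRing B] [Algebra κ B]
    [Module.Finite κ B] : ∃ d : ℕ, (Module.length B B).toNat * d = Module.finrank κ B := by
  have : IsLocalHom (algebraMap κ B) := isLocalHom_toRingHom (algebraMap κ B)
  refine ⟨(Module.length (ResidueField κ) (ResidueField B)).toNat, ?_⟩
  have h := IsLocalRing.length_restrictScalars κ B B
  rw [← ENat.toNat_mul, ← h, Module.length_eq_finrank, ENat.toNat_natCast]

theorem exists_length_dvd_pow_of_generated (k₁ : Type u) [Field k₁] [Algebra k k₁] [Algebra k₁ k']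
    [IsScalarTower k k₁ k'] [IsPurelyInseparable k k'] [FiniteDimensional k k₁]
    (p : ℕ) [Fact p.Prime] [CharP k p]
    (hgen : nilradical (k' ⊗[k] κ) ≤
      (nilradical (k₁ ⊗[k] κ)).map (Algebra.TensorProduct.map (IsScalarTower.toAlgHom k k₁ k') (AlgHom.id k κ)).toRingHom) :
    ∃ a : ℕ, (Module.length (k' ⊗[k] κ) (k' ⊗[k] κ)).toNat ∣ p ^ a := by
  have : IsPurelyInseparable k k₁ := IsPurelyInseparable.tower_bot k k₁ k'
  have hB := isNilpotent_or_isUnit_tensor k κ k' p
  have hB₁ := isNilpotent_or_isUnit_tensor k κ k₁ p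
  have : Nontrivial (k₁ ⊗[k] κ) :=
    (Algebra.TensorProduct.includeLeft_injective (S := k) (A := k₁) (B := κ) (algebraMap k κ).injective).nontrivial
  have : IsLocalRing (k₁ ⊗[k] κ) := isLocalRing_of_isNilpotent_or_isUnit hB₁
  let e : (k₁ ⊗[k] κ) ⊗[k₁] k' ≃+* k' ⊗[k] κ :=
    ((Algebra.TensorProduct.comm k₁ (k₁ ⊗[k] κ) k').toRingEquiv).trans
      (Algebra.TensorProduct.cancelBaseChange k k₁ k' k' κ).toRingEquiv
  have he : e.toRingHom.comp (algebraMap (k₁ ⊗[k] κ) ((k₁ ⊗[k] κ) ⊗[k₁] k')) =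
      (Algebra.TensorProduct.map (IsScalarTower.toAlgHom k k₁ k') (AlgHom.id k κ)).toRingHom := by
    refine RingHom.ext fun g => ?_
    induction g using TensorProduct.induction_on with
    | zero => simp
    | tmul s t => simp [e, Algebra.TensorProduct.algebraMap_apply, Algebra.smul_def]
    | add a b ha hb => simp only [map_add, ha, hb]
  have hB' : ∀ b : (k₁ ⊗[k] κ) ⊗[k₁] k', IsNilpotent b ∨ IsUnit b := fun b => by
    rcases hB (e b) with h | h
    · exact Or.inl (by simpa using h.map e.symm)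
    · exact Or.inr (by simpa using h.map e.symm)
  have : Nontrivial (k' ⊗[k] κ) :=
    (Algebra.TensorProduct.includeLeft_injective (S := k) (A := k') (B := κ) (algebraMap k κ).injective).nontrivial
  have : Nontrivial ((k₁ ⊗[k] κ) ⊗[k₁] k') := e.toEquiv.nontrivial
  have : IsLocalRing ((k₁ ⊗[k] κ) ⊗[k₁] k') := isLocalRing_of_isNilpotent_or_isUnit hB'
  have hloc : IsLocalHom (algebraMap (k₁ ⊗[k] κ) ((k₁ ⊗[k] κ) ⊗[k₁] k')) := ⟨fun b hb =>
    (hB₁ b).resolve_left fun hn => (hn.map (algebraMap (k₁ ⊗[k] κ) _)).not_isUnit hb⟩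
  have hmax : (maximalIdeal (k₁ ⊗[k] κ)).map (algebraMap _ ((k₁ ⊗[k] κ) ⊗[k₁] k')) =
      maximalIdeal ((k₁ ⊗[k] κ) ⊗[k₁] k') := by
    refine le_antisymm (((local_hom_TFAE (algebraMap (k₁ ⊗[k] κ) ((k₁ ⊗[k] κ) ⊗[k₁] k'))).out 0 2).mp hloc) ?_
    rw [maximalIdeal_eq_nilradical hB', maximalIdeal_eq_nilradical hB₁]
    intro y hy
    have h2 := hgen (mem_nilradical.mpr ((mem_nilradical.mp hy).map e.toRingHom))
    rw [← he, ← Ideal.map_map, Ideal.mem_map_iff_of_surjective e.toRingHom e.surjective] at h2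
    obtain ⟨z, hz, hzy⟩ := h2
    exact e.injective hzy ▸ hz
  have hone : Module.length ((k₁ ⊗[k] κ) ⊗[k₁] k')
      (((k₁ ⊗[k] κ) ⊗[k₁] k') ⧸ (maximalIdeal (k₁ ⊗[k] κ)).map (algebraMap _ ((k₁ ⊗[k] κ) ⊗[k₁] k'))) = 1 := by
    rw [hmax]
    exact Module.length_eq_one_iff.mpr (isSimpleModule_iff_quot_maximal.mpr
      ⟨_, maximalIdeal.isMaximal _, ⟨LinearEquiv.refl _ _⟩⟩)
  have hlen : Module.length ((k₁ ⊗[k] κ) ⊗[k₁] k') ((k₁ ⊗[k] κ) ⊗[k₁] k') =
      Module.length (k₁ ⊗[k] κ) (k₁ ⊗[k] κ) := by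
    have h := IsLocalRing.length_baseChange (k₁ ⊗[k] κ) ((k₁ ⊗[k] κ) ⊗[k₁] k') (k₁ ⊗[k] κ)
    rw [(TensorProduct.AlgebraTensorModule.rid (k₁ ⊗[k] κ) ((k₁ ⊗[k] κ) ⊗[k₁] k') _).length_eq, hone, mul_one] at h
    exact h
  have : IsLocalRing (κ ⊗[k] k₁) := (Algebra.TensorProduct.comm k k₁ κ).toRingEquiv.isLocalRing
  obtain ⟨d, hd⟩ := finrank_eq_length_mul κ (κ ⊗[k] k₁)
  have hfr : Module.finrank κ (κ ⊗[k] k₁) = Module.finrank k k₁ := Module.finrank_baseChange
  have : ExpChar k p := ExpChar.prime Fact.out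
  obtain ⟨a, ha⟩ := IsPurelyInseparable.finrank_eq_pow k k₁ p
  refine ⟨a, d, ?_⟩
  rw [← length_ringEquiv e, hlen, length_ringEquiv (Algebra.TensorProduct.comm k k₁ κ).toRingEquiv, ← ha, ← hfr]
  exact hd.symm

theorem exists_length_dvd_pow [IsPurelyInseparable k k'] (p : ℕ) [Fact p.Prime] [CharP k p]
    [IsNoetherianRing (k' ⊗[k] κ)] :
    ∃ a : ℕ, (Module.length (k' ⊗[k] κ) (k' ⊗[k] κ)).toNat ∣ p ^ a := by
  classical
  -- generators of the nilradical live over a finite subextension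
  obtain ⟨S, hS⟩ := IsNoetherian.noetherian (nilradical (k' ⊗[k] κ))
  have hgen : ∀ x : k' ⊗[k] κ, ∃ T : Finset k', ∀ k₁ : IntermediateField k k', (↑T : Set k') ⊆ k₁ →
      x ∈ (Algebra.TensorProduct.map k₁.val (AlgHom.id k κ)).range := by
    intro x
    induction x using TensorProduct.induction_on with
    | zero => exact ⟨∅, fun k₁ _ => zero_mem _⟩
    | tmul s t => exact ⟨{s}, fun k₁ h => ⟨(⟨s, h (by simp)⟩ : k₁) ⊗ₜ t, by simp⟩⟩
    | add x y hx hy =>
      obtain ⟨T, hT⟩ := hx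
      obtain ⟨T', hT'⟩ := hy
      exact ⟨T ∪ T', fun k₁ h => add_mem (hT k₁ (fun a ha => h (by simp [Finset.mem_coe.mp ha])))
        (hT' k₁ (fun a ha => h (by simp [Finset.mem_coe.mp ha])))⟩
  choose T hT using hgen
  let k₁ : IntermediateField k k' := IntermediateField.adjoin k (↑(S.biUnion T) : Set k')
  have : FiniteDimensional k k₁ :=
    IntermediateField.finiteDimensional_adjoin fun x _ => Algebra.IsIntegral.isIntegral x
  refine exists_length_dvd_pow_of_generated k κ k' k₁ p ?_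
  rw [← hS, Submodule.span_le]
  intro g hg
  obtain ⟨g₁, hg₁⟩ := hT g k₁ fun a ha => IntermediateField.subset_adjoin k _
    (by exact Finset.mem_coe.mpr (Finset.mem_biUnion.mpr ⟨g, hg, Finset.mem_coe.mp ha⟩))
  have hinj : Function.Injective (Algebra.TensorProduct.map k₁.val (AlgHom.id k κ)) :=
    Module.Flat.rTensor_preserves_injective_linearMap (M := κ) k₁.val.toLinearMap Subtype.val_injective
  have hnil : IsNilpotent g₁ := by
    have hgn : IsNilpotent g := mem_nilradical.mp (hS ▸ Submodule.subset_span hg)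
    rw [← hg₁] at hgn
    exact (IsNilpotent.map_iff hinj).mp hgn
  rw [← hg₁]
  exact Ideal.mem_map_of_mem _ (mem_nilradical.mpr hnil)

end Groth.InsepCycles
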