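import Groth.Agent.Misc1.InsepCycles.Fibre
import Mathlib.RingTheory.AlgebraicIndependent.TranscendenceBasis
import Mathlib.RingTheory.AlgebraicIndependent.Transcendental
/-! # Transcendence degrees of residue field extensions -/

universe u

open CategoryTheory AlgebraicGeometry

namespace Groth.InsepCycles

/-- transcendence degree of `κ(x)` over `κ(f x)` -/
noncomputable def resTrdeg {X Y : Scheme.{u}} (f : X ⟶ Y) (x : X) : Cardinal.{u} :=
  letI := (f.residueFieldMap x).hom.toAlgebra
  Algebra.trdeg (Y.residueField (f x)) (X.residueField x)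

theorem resTrdeg_comp {X Y Z : Scheme.{u}} (f : X ⟶ Y) (g : Y ⟶ Z) (x : X) :
    resTrdeg (f ≫ g) x = resTrdeg g (f x) + resTrdeg f x := by
  let _ := (f.residueFieldMap x).hom.toAlgebra
  let _ := (g.residueFieldMap (f x)).hom.toAlgebra
  let _ : Algebra (Z.residueField (g (f x))) (X.residueField x) := ((f ≫ g).residueFieldMap x).hom.toAlgebra
  have : IsScalarTower (Z.residueField (g (f x))) (Y.residueField (f x)) (X.residueField x) :=
    IsScalarTower.of_algebraMap_eq fun a => by
      change ((f ≫ g).residueFieldMap x) a = _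
      rw [Scheme.residueFieldMap_comp]
      rfl
  exact (trdeg_add_eq (R := Z.residueField (g (f x))) (S := Y.residueField (f x))
    (A := X.residueField x)).symm

theorem resTrdeg_of_isIntegralHom {X Y : Scheme.{u}} (f : X ⟶ Y) [IsIntegralHom f] (x : X) :
    resTrdeg f x = 0 := by
  let _ := (f.residueFieldMap x).hom.toAlgebra
  have : Algebra.IsIntegral (Y.residueField (f x)) (X.residueField x) :=
    ⟨residueFieldMap_isIntegral f x⟩
  have : Algebra.IsAlgebraic (Y.residueField (f x)) (X.residueField x) :=
    Algebra.IsIntegral.isAlgebraic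
  exact trdeg_eq_zero

theorem resTrdeg_fst {X' X S S' : Scheme.{u}} {π : X' ⟶ X} {f' : X' ⟶ S'} {f : X ⟶ S} {g : S' ⟶ S}
    (h : π ≫ f = f' ≫ g) [IsIntegralHom π] [IsIntegralHom g] (x : X') :
    resTrdeg f (π x) = resTrdeg f' x := by
  have h1 := resTrdeg_comp π f x
  rw [h, resTrdeg_comp, resTrdeg_of_isIntegralHom π, resTrdeg_of_isIntegralHom g, zero_add, add_zero] at h1
  exact h1.symm

end Groth.InsepCycles
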