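import Groth.Prelude.Def_Cyc
import Groth.Agent.Misc1.InsepCycles.Trdeg
import Mathlib.AlgebraicGeometry.Morphisms.FiniteType
/-! # Base change of cycles along purely inseparable extensions has `p`-power torsion cokernel -/

universe u

open CategoryTheory CategoryTheory.Limits AlgebraicGeometry

namespace Groth.InsepCycles

theorem pow_smul_mem_range (k k' : Type u) [Field k] [Field k'] [Algebra k k'] [IsPurelyInseparable k k']
    (p : ℕ) [Fact p.Prime] [CharP k p] {X : Scheme.{u}} (f : X ⟶ Spec (CommRingCat.of k))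
    [LocallyOfFiniteType f] [QuasiCompact f] (δ : X → ℤ) (hδ : Cyc.DeltaCompat f δ (fun _ => 0))
    (δ' : ↥(pullback f (Spec.map (CommRingCat.ofHom (algebraMap k k')))) → ℤ)
    (hδ' : Cyc.DeltaCompat (pullback.snd f (Spec.map (CommRingCat.ofHom (algebraMap k k')))) δ' (fun _ => 0))
    (r : ℤ) (β : AlgebraicCycle (pullback f (Spec.map (CommRingCat.ofHom (algebraMap k k')))) ℤ)
    (hβ : β ∈ Cyc.Zk _ δ' r) :
    ∃ (n : ℕ) (α : AlgebraicCycle X ℤ), α ∈ Cyc.Zk X δ r ∧
      (p : ℤ) ^ n • ⇑β = Cyc.pullFun (pullback.fst f (Spec.map (CommRingCat.ofHom (algebraMap k k')))) δ' δ 0 ⇑α := by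
  classical
  have hsnd : LocallyOfFiniteType (pullback.snd f (Spec.map (CommRingCat.ofHom (algebraMap k k')))) :=
    inferInstance
  have : IsLocallyNoetherian (pullback f (Spec.map (CommRingCat.ofHom (algebraMap k k')))) :=
    LocallyOfFiniteType.isLocallyNoetherian (pullback.snd f (Spec.map (CommRingCat.ofHom (algebraMap k k'))))
  have : CompactSpace ↥(pullback f (Spec.map (CommRingCat.ofHom (algebraMap k k')))) :=
    QuasiCompact.compactSpace_of_compactSpace (pullback.snd f (Spec.map (CommRingCat.ofHom (algebraMap k k'))))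
  have hg : IsIntegralHom (Spec.map (CommRingCat.ofHom (algebraMap k k'))) :=
    IsIntegralHom.SpecMap_iff.mpr (algebraMap_isIntegral_iff.mpr inferInstance)
  -- dimensions agree
  have hdim : ∀ z, δ' z = δ (proj k k' f z) := by
    intro z
    obtain ⟨n, hn, hnz⟩ := hδ (proj k k' f z)
    obtain ⟨m, hm, hmz⟩ := hδ' z
    change resTrdeg f (proj k k' f z) = n at hn
    change resTrdeg (pullback.snd f (Spec.map (CommRingCat.ofHom (algebraMap k k')))) z = m at hm
    rw [resTrdeg_fst pullback.condition, hm] at hn
    have : m = n := by exact_mod_cast hn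
    rw [hnz, hmz, this]
  -- multiplicities divide a common power of `p`
  choose a ha using fun z => exists_length_stalk_dvd_pow k k' f p z
  have hfin : (⇑β).support.Finite := by
    have := LocallyFiniteSupport.finite_inter_support_of_isCompact β.locallyFiniteSupport
      (isCompact_univ (X := ↥(pullback f (Spec.map (CommRingCat.ofHom (algebraMap k k'))))))
    simpa using this
  let N : ℕ := hfin.toFinset.sup a
  let mult : ↥(pullback f (Spec.map (CommRingCat.ofHom (algebraMap k k')))) → ℕ := fun z =>
    (Module.length ((pullback f (Spec.map (CommRingCat.ofHom (algebraMap k k')))).presheaf.stalk z)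
      ((pullback f (Spec.map (CommRingCat.ofHom (algebraMap k k')))).presheaf.stalk z ⧸
        Ideal.map ((proj k k' f).stalkMap z).hom
          (IsLocalRing.maximalIdeal (X.presheaf.stalk (proj k k' f z))))).toNat
  have hmult : ∀ z, β z ≠ 0 → mult z ∣ p ^ N := fun z hz =>
    (ha z).trans (pow_dvd_pow p (Finset.le_sup (f := a) (by simpa using hz)))
  let E := Equiv.ofBijective _ (bijective_proj k k' f p)
  have hE : ∀ z, E.symm (proj k k' f z) = z := E.symm_apply_apply
  let α₀ : X → ℤ := fun x => β (E.symm x) * ((p ^ N / mult (E.symm x) : ℕ) : ℤ)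
  have hsupp : α₀.support.Finite := by
    refine (hfin.image E).subset fun x hx => ⟨E.symm x, ?_, E.apply_symm_apply x⟩
    simp only [Function.mem_support, α₀] at hx ⊢
    exact left_ne_zero_of_mul hx
  let α : AlgebraicCycle X ℤ :=
    { toFun := α₀
      supportWithinDomain' := fun _ _ => trivial
      supportLocallyFiniteWithinDomain' := fun x _ => ⟨Set.univ, Filter.univ_mem, by simpa using hsupp⟩ }
  refine ⟨N, α, fun x hx => ?_, funext fun z => ?_⟩
  · change β (E.symm x) * _ = 0
    rw [hβ (E.symm x) ?_, zero_mul]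
    rwa [hdim, show proj k k' f (E.symm x) = x from E.apply_symm_apply x]
  · change (p : ℤ) ^ N * β z = if δ' z = δ (proj k k' f z) + 0 then α₀ (proj k k' f z) * (mult z : ℤ) else 0
    rw [if_pos (by rw [add_zero, hdim])]
    simp only [α₀, hE]
    by_cases hz : β z = 0
    · simp [hz]
    · rw [mul_assoc, ← Nat.cast_mul, Nat.div_mul_cancel (hmult z hz), Nat.cast_pow, mul_comm]

end Groth.InsepCycles
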