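import Groth.Agent.Misc1.InsepCycles.AlgLength
import Groth.Agent.S9501
import Mathlib.AlgebraicGeometry.Morphisms.Integral
import Mathlib.AlgebraicGeometry.Morphisms.UniversallyInjective
import Mathlib.AlgebraicGeometry.Fiber
import Mathlib.AlgebraicGeometry.Pullbacks
import Mathlib.AlgebraicGeometry.Stalk
import Mathlib.AlgebraicGeometry.Noetherian
import Mathlib.RingTheory.LocalRing.ResidueField.Basic
/-! # Fibres of `X_{k'} ⟶ X` for a purely inseparable field extension `k'/k` -/

universe u

open CategoryTheory CategoryTheory.Limits AlgebraicGeometry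
open scoped TensorProduct

namespace Groth.InsepCycles

/-- Residue field extensions of integral morphisms are algebraic. -/
theorem residueFieldMap_isIntegral {X Y : Scheme.{u}} (f : X ⟶ Y) [IsIntegralHom f] (x : X) :
    (f.residueFieldMap x).hom.IsIntegral := by
  obtain ⟨V, hV, hxV, -⟩ := exists_isAffineOpen_mem_and_subset (U := ⊤) (show f x ∈ (⊤ : Y.Opens) from trivial)
  have hint := f.isIntegral_app V hV
  let := (f.residueFieldMap x).hom.toAlgebra
  have hev : ∀ a : Γ(X, f ⁻¹ᵁ V), IsIntegral (Y.residueField (f x)) (X.evaluation (f ⁻¹ᵁ V) x hxV a) := fun a => by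
    obtain ⟨p, hp, hpa⟩ := hint a
    refine ⟨p.map (Y.evaluation V (f x) hxV).hom, hp.map _, ?_⟩
    rw [Polynomial.eval₂_map]
    have h : (algebraMap (Y.residueField (f x)) (X.residueField x)).comp (Y.evaluation V (f x) hxV).hom =
        (X.evaluation (f ⁻¹ᵁ V) x hxV).hom.comp (f.app V).hom :=
      RingHom.ext fun s => Scheme.evaluation_naturality_apply f x hxV s
    rw [h, ← Polynomial.hom_eval₂]
    exact (congrArg _ hpa).trans (map_zero _)
  have hU : IsAffineOpen (f ⁻¹ᵁ V) := hV.preimage f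
  intro z
  obtain ⟨s, rfl⟩ := X.residue_surjective x z
  let := X.presheaf.algebra_section_stalk (⟨x, hxV⟩ : ↥(f ⁻¹ᵁ V))
  have : IsLocalization.AtPrime (X.presheaf.stalk x) (hU.primeIdealOf ⟨x, hxV⟩).asIdeal :=
    hU.isLocalization_stalk ⟨x, hxV⟩
  obtain ⟨a, b, hab⟩ := IsLocalization.exists_mk'_eq (hU.primeIdealOf ⟨x, hxV⟩).asIdeal.primeCompl s
  have h1 : s * algebraMap Γ(X, f ⁻¹ᵁ V) (X.presheaf.stalk x) b = algebraMap Γ(X, f ⁻¹ᵁ V) (X.presheaf.stalk x) a := by
    rw [← hab]; exact IsLocalization.mk'_spec _ _ _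
  have hbu : IsUnit (algebraMap Γ(X, f ⁻¹ᵁ V) (X.presheaf.stalk x) b) :=
    IsLocalization.map_units (X.presheaf.stalk x) b
  have h2 : X.residue x s * X.evaluation (f ⁻¹ᵁ V) x hxV b = X.evaluation (f ⁻¹ᵁ V) x hxV a := by
    have := congrArg (X.residue x).hom h1
    rwa [map_mul] at this
  have hb0 : X.evaluation (f ⁻¹ᵁ V) x hxV b ≠ 0 := (hbu.map (X.residue x).hom).ne_zero
  change IsIntegral (Y.residueField (f x)) (X.residue x s)
  rw [show X.residue x s = X.evaluation (f ⁻¹ᵁ V) x hxV a * (X.evaluation (f ⁻¹ᵁ V) x hxV b)⁻¹ from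
    (eq_mul_inv_iff_mul_eq₀ hb0).mpr h2]
  exact (hev a).mul (IsIntegral.inv (hev b))

variable (k k' : Type u) [Field k] [Field k'] [Algebra k k'] {X : Scheme.{u}}
  (f : X ⟶ Spec (CommRingCat.of k))

/-- the projection `X_{k'} ⟶ X` -/
noncomputable abbrev proj :
    pullback f (Spec.map (CommRingCat.ofHom (algebraMap k k'))) ⟶ X :=
  pullback.fst f (Spec.map (CommRingCat.ofHom (algebraMap k k')))

theorem exists_fiber_iso (x : X) :
    ∃ (_ : Algebra k (X.residueField x)),
      Nonempty ((proj k k' f).fiber x ≅ Spec (CommRingCat.of (k' ⊗[k] (X.residueField x)))) := by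
  let g := Spec.map (CommRingCat.ofHom (algebraMap k k'))
  let φ := Spec.preimage (X.fromSpecResidueField x ≫ f)
  let : Algebra k (X.residueField x) := φ.hom.toAlgebra
  refine ⟨φ.hom.toAlgebra, ⟨?_⟩⟩
  refine pullbackSymmetry _ _ ≪≫ pullbackRightPullbackFstIso f g (X.fromSpecResidueField x) ≪≫ ?_
  refine pullback.congrHom (Spec.map_preimage (X.fromSpecResidueField x ≫ f)).symm rfl ≪≫ ?_
  exact pullbackSymmetry _ _ ≪≫ pullbackSpecIso k k' (X.residueField x)

variable [IsPurelyInseparable k k'] (p : ℕ) [Fact p.Prime] [CharP k p]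

include p in
theorem isLocalRing_tensor (κ : Type u) [Field κ] [Algebra k κ] : IsLocalRing (k' ⊗[k] κ) := by
  have : Nontrivial (k' ⊗[k] κ) :=
    (Algebra.TensorProduct.includeLeft_injective (S := k) (A := k') (B := κ) (algebraMap k κ).injective).nontrivial
  exact isLocalRing_of_isNilpotent_or_isUnit (isNilpotent_or_isUnit_tensor k κ k' p)

include p in
theorem subsingleton_primeSpectrum (κ : Type u) [Field κ] [Algebra k κ] :
    Subsingleton (PrimeSpectrum (k' ⊗[k] κ)) := by
  have := isLocalRing_tensor k k' p κ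
  refine ⟨fun P Q => PrimeSpectrum.ext ?_⟩
  have h : ∀ P : PrimeSpectrum (k' ⊗[k] κ), P.asIdeal = nilradical (k' ⊗[k] κ) := fun P => by
    refine le_antisymm (fun b hb => ?_) (nilradical_le_prime P.asIdeal)
    rcases isNilpotent_or_isUnit_tensor k κ k' p b with h | h
    · exact mem_nilradical.mpr h
    · exact absurd (P.asIdeal.eq_top_of_isUnit_mem hb h) P.isPrime.ne_top
  rw [h P, h Q]

include p in
theorem bijective_proj : Function.Bijective (proj k k' f) := by
  refine ⟨fun a b hab => ?_, fun x => ?_⟩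
  · obtain ⟨_, ⟨e⟩⟩ := exists_fiber_iso k k' f (proj k k' f a)
    have hs := subsingleton_primeSpectrum k k' p (X.residueField (proj k k' f a))
    have hfib : Subsingleton ((proj k k' f).fiber (proj k k' f a)) := @Equiv.subsingleton _ _ e.hom.homeomorph.toEquiv hs
    have ha : a ∈ Set.range ((proj k k' f).fiberι (proj k k' f a)) := by rw [Scheme.Hom.range_fiberι]; rfl
    have hb : b ∈ Set.range ((proj k k' f).fiberι (proj k k' f a)) := by rw [Scheme.Hom.range_fiberι]; exact hab.symm
    obtain ⟨a', ha'⟩ := ha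
    obtain ⟨b', hb'⟩ := hb
    rw [← ha', ← hb', Subsingleton.elim a' b']
  · obtain ⟨_, ⟨e⟩⟩ := exists_fiber_iso k k' f x
    have := isLocalRing_tensor k k' p (X.residueField x)
    obtain ⟨y⟩ : Nonempty ((proj k k' f).fiber x) :=
      e.hom.homeomorph.toEquiv.nonempty_congr.mpr (inferInstance : Nonempty (PrimeSpectrum _))
    refine ⟨(proj k k' f).fiberι x y, ?_⟩
    have : (proj k k' f).fiberι x y ∈ (proj k k' f) ⁻¹' {x} := by
      rw [← Scheme.Hom.range_fiberι]; exact ⟨y, rfl⟩
    exact this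

instance isIntegralHom_proj : IsIntegralHom (proj k k' f) := by
  have : IsIntegralHom (Spec.map (CommRingCat.ofHom (algebraMap k k'))) :=
    IsIntegralHom.SpecMap_iff.mpr (algebraMap_isIntegral_iff.mpr inferInstance)
  exact MorphismProperty.pullback_fst _ _ this

include p in
theorem exists_length_stalk_dvd_pow [IsLocallyNoetherian (pullback f (Spec.map (CommRingCat.ofHom (algebraMap k k'))))]
    (z : ↥(pullback f (Spec.map (CommRingCat.ofHom (algebraMap k k'))))) :
    ∃ a : ℕ, (Module.length ((pullback f (Spec.map (CommRingCat.ofHom (algebraMap k k')))).presheaf.stalk z)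
      ((pullback f (Spec.map (CommRingCat.ofHom (algebraMap k k')))).presheaf.stalk z ⧸
        Ideal.map ((proj k k' f).stalkMap z).hom
          (IsLocalRing.maximalIdeal (X.presheaf.stalk (proj k k' f z))))).toNat ∣ p ^ a := by
  suffices h : ∀ (x : X) (y : (proj k k' f).fiber x),
      ∃ a : ℕ, (Module.length ((pullback f (Spec.map (CommRingCat.ofHom (algebraMap k k')))).presheaf.stalk ((proj k k' f).fiberι x y))
      ((pullback f (Spec.map (CommRingCat.ofHom (algebraMap k k')))).presheaf.stalk ((proj k k' f).fiberι x y) ⧸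
        Ideal.map ((proj k k' f).stalkMap ((proj k k' f).fiberι x y)).hom
          (IsLocalRing.maximalIdeal (X.presheaf.stalk (proj k k' f ((proj k k' f).fiberι x y)))))).toNat ∣ p ^ a by
    obtain ⟨y, hy⟩ : z ∈ Set.range ((proj k k' f).fiberι (proj k k' f z)) := by
      rw [Scheme.Hom.range_fiberι]; rfl
    exact hy ▸ h _ y
  intro x y
  obtain ⟨hsurj, hker⟩ := Groth.Agent.S9501.result (proj k k' f) x y
  obtain ⟨_, ⟨e⟩⟩ := exists_fiber_iso k k' f x
  have := isLocalRing_tensor k k' p (X.residueField x)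
  have := subsingleton_primeSpectrum k k' p (X.residueField x)
  have he : e.hom y = IsLocalRing.closedPoint (k' ⊗[k] (X.residueField x)) :=
    Subsingleton.elim (α := PrimeSpectrum (k' ⊗[k] (X.residueField x))) _ _
  let θ := (asIso (e.hom.stalkMap y)).commRingCatIsoToRingEquiv.symm.trans
    (((Spec _).presheaf.stalkCongr (Inseparable.of_eq he)).commRingCatIsoToRingEquiv.trans
      (stalkClosedPointIso (CommRingCat.of (k' ⊗[k] (X.residueField x)))).commRingCatIsoToRingEquiv)
  let q := (RingHom.quotientKerEquivOfSurjective hsurj).trans θ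
  have : IsNoetherianRing (k' ⊗[k] (X.residueField x)) := isNoetherianRing_of_ringEquiv _ q
  obtain ⟨a, ha⟩ := exists_length_dvd_pow k (X.residueField x) k' p
  refine ⟨a, ?_⟩
  rw [← length_ringEquiv q, hker] at ha
  exact (congrArg (fun L : ℕ∞ => L.toNat ∣ p ^ a)
    (Module.length_eq_of_surjective Ideal.Quotient.mk_surjective)).mpr ha

end Groth.InsepCycles
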