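import Groth.Agent.Misc1.InsepCycles.Mult
import Groth.Agent.GrpschAbsch.PerfectReduced
import Mathlib.RingTheory.AlgebraicIndependent.TranscendenceBasis
import Mathlib.RingTheory.AlgebraicIndependent.Adjoin
import Mathlib.RingTheory.TensorProduct.MvPolynomial
import Mathlib.FieldTheory.SeparableClosure
/-! # `M ⊗_k K` is reduced for `M/k` separably generated -/

universe u

open scoped TensorProduct

namespace Groth.InsepCycles

theorem isReduced_adjoin_tensor (k K L : Type u) [Field k] [Field K] [Field L] [Algebra k K] [Algebra k L]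
    {ι : Type u} (x : ι → L) (hx : AlgebraicIndependent k x) :
    IsReduced (IntermediateField.adjoin k (Set.range x) ⊗[k] K) := by
  classical
  let M := IntermediateField.adjoin k (Set.range x)
  let P := MvPolynomial ι k
  let xM : ι → M := fun i => ⟨x i, IntermediateField.subset_adjoin k _ ⟨i, rfl⟩⟩
  let f : P →ₐ[k] M := MvPolynomial.aeval xM
  have hfval : ∀ a, (f a : L) = MvPolynomial.aeval x a := fun a =>
    MvPolynomial.comp_aeval_apply _ M.val a
  have hf : Function.Injective f := fun a b h => hx (by rw [← hfval, ← hfval, h])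
  let ψ : P ⊗[k] K →ₐ[k] M ⊗[k] K := Algebra.TensorProduct.map f (AlgHom.id k K)
  have hmp : ∀ (a : P ⊗[k] K) (n : ℕ), ψ (a ^ n) = ψ a ^ n := fun a n => RingHom.map_pow ψ.toRingHom a n
  have hψ : Function.Injective ψ :=
    Module.Flat.rTensor_preserves_injective_linearMap (M := K) f.toLinearMap hf
  have : IsReduced (P ⊗[k] K) := isReduced_of_injective
    ((Algebra.TensorProduct.comm k P K).toRingEquiv.trans (MvPolynomial.algebraTensorAlgEquiv k K).toRingEquiv)
    (RingEquiv.injective _)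
  have hfrac : ∀ z : M ⊗[k] K, ∃ (s : M) (_ : s ≠ 0) (w : P ⊗[k] K) (s₀ : P), f s₀ = s ∧ (s ⊗ₜ 1) * z = ψ w := by
    intro z
    induction z using TensorProduct.induction_on with
    | zero => exact ⟨1, one_ne_zero, 0, 1, map_one f, by simp⟩
    | tmul m c =>
      obtain ⟨a, b, hab⟩ := IntermediateField.mem_adjoin_range_iff k _ _ |>.1 m.2
      rcases eq_or_ne (f b) 0 with hb | hb
      · refine ⟨1, one_ne_zero, 0, 1, map_one f, ?_⟩
        have : m = 0 := Subtype.ext (by rw [hab, ← hfval b, hb]; simp)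
        simp [this]
      · refine ⟨f b, hb, a ⊗ₜ c, b, rfl, ?_⟩
        have : f b * m = f a := Subtype.ext (by
          rw [MulMemClass.coe_mul, hfval, hfval, hab, mul_div_cancel₀ _ (fun h => hb (Subtype.ext (by rw [hfval, h]; rfl)))])
        rw [Algebra.TensorProduct.tmul_mul_tmul, one_mul, this]
        rfl
    | add y z hy hz =>
      obtain ⟨s, hs, w, s₀, hs₀, hw⟩ := hy
      obtain ⟨t, ht, v, t₀, ht₀, hv⟩ := hz
      refine ⟨s * t, mul_ne_zero hs ht, (t₀ ⊗ₜ 1) * w + (s₀ ⊗ₜ 1) * v, s₀ * t₀, by rw [map_mul, hs₀, ht₀], ?_⟩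
      rw [map_add, map_mul, map_mul, ← hw, ← hv]
      have h1 : ψ (t₀ ⊗ₜ 1) = t ⊗ₜ 1 := by rw [← ht₀]; rfl
      have h2 : ψ (s₀ ⊗ₜ 1) = s ⊗ₜ 1 := by rw [← hs₀]; rfl
      have h3 : ((s * t) ⊗ₜ[k] (1 : K)) = (s ⊗ₜ 1) * (t ⊗ₜ 1) := by
        rw [Algebra.TensorProduct.tmul_mul_tmul, one_mul]
      rw [h1, h2, h3]
      ring
  suffices hred : ∀ z : M ⊗[k] K, IsNilpotent z → z = 0 from ⟨hred⟩
  intro z hz
  obtain ⟨s, hs, w, s₀, -, hw⟩ := hfrac z
  have hwn : IsNilpotent w := by
    have h1 : IsNilpotent (ψ w) := by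
      rw [← hw]
      exact Commute.isNilpotent_mul_left (mul_comm (s ⊗ₜ[k] (1 : K)) z) hz
    obtain ⟨n, hn⟩ := h1
    exact ⟨n, hψ (by rw [hmp, hn, map_zero])⟩
  rw [hwn.eq_zero, map_zero] at hw
  exact ((Ne.isUnit hs).map (Algebra.TensorProduct.includeLeft : M →ₐ[k] M ⊗[k] K)).mul_right_eq_zero.1 hw


theorem exists_length_atPrime_of_tower (k K L M F : Type u) [Field k] [Field K] [Field L] [Field M] [Field F]
    [Algebra k K] [Algebra k M] [Algebra k F] [Algebra M F] [IsScalarTower k M F] [Algebra k L] [Algebra F L]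
    [IsScalarTower k F L] [FiniteDimensional M F] [Algebra.IsSeparable M F] [IsReduced (M ⊗[k] K)]
    [FiniteDimensional F L] [IsPurelyInseparable F L] (p : ℕ) [ExpChar k p]
    (q : Ideal (K ⊗[k] L)) [q.IsPrime] (hq : q ∈ minimalPrimes (K ⊗[k] L)) :
    ∃ n : ℕ, Module.length (Localization.AtPrime q) (Localization.AtPrime q) = (p ^ n : ℕ) := by
  classical
  have : ExpChar F p := expChar_of_injective_ringHom (algebraMap k F).injective p
  have : IsReduced ((M ⊗[k] K) ⊗[M] F) := Groth.GrpschAbsch.isReduced_tensor_of_isSeparable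
  let e₁ : F ⊗[k] K ≃+* (M ⊗[k] K) ⊗[M] F :=
    (Algebra.TensorProduct.cancelBaseChange k M F F K).toRingEquiv.symm.trans
      (Algebra.TensorProduct.comm M F (M ⊗[k] K)).toRingEquiv
  have : IsReduced (F ⊗[k] K) := isReduced_of_injective e₁ e₁.injective
  let e : (F ⊗[k] K) ⊗[F] L ≃+* K ⊗[k] L :=
    ((Algebra.TensorProduct.comm F (F ⊗[k] K) L).toRingEquiv.trans
      (Algebra.TensorProduct.cancelBaseChange k F L L K).toRingEquiv).trans
      (Algebra.TensorProduct.comm k L K).toRingEquiv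
  let q' : Ideal ((F ⊗[k] K) ⊗[F] L) := q.comap e.toRingHom
  have hq' : q' ∈ minimalPrimes ((F ⊗[k] K) ⊗[F] L) := by
    refine ⟨⟨inferInstance, bot_le⟩, fun P hP hle => ?_⟩
    have := hP.1
    intro a ha
    have h1 : (P.comap e.symm.toRingHom) ≤ q := fun b hb => by
      have h3 : e (e.symm b) ∈ q := hle (show e.symm b ∈ P from hb)
      rwa [e.apply_symm_apply] at h3
    have h2 := hq.2 ⟨inferInstance, bot_le⟩ h1 (show e a ∈ q from ha)
    simpa using h2
  obtain ⟨n, hn⟩ := exists_length_atPrime_eq_pow F L (F ⊗[k] K) p q' hq'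
  refine ⟨n, ?_⟩
  rw [← hn]
  exact length_ringEquiv
    (IsLocalization.ringEquivOfRingEquiv (M := q'.primeCompl) (T := q.primeCompl)
      (Localization.AtPrime q') (Localization.AtPrime q) e (by
        ext b
        exact ⟨fun ⟨a, ha, hab⟩ => hab ▸ ha, fun hb => ⟨e.symm b, show ¬ e (e.symm b) ∈ q by
          rw [e.apply_symm_apply]; exact hb, e.apply_symm_apply b⟩⟩)).symm

end Groth.InsepCycles
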